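import Mathlib
import Groth.Agent.Lib.Helper9.GrLC.Basic

set_option autoImplicit false
set_option linter.unusedSectionVars false
set_option linter.unusedVariables false
set_option linter.unusedSimpArgs false
set_option linter.style.haveILetI false
set_option maxHeartbeats 400000

/-!
# Associated primes of `ℤ`-graded modules are homogeneous
-/

universe u

namespace Groth.Agent.Lib.Helper6.GrDepth

open DirectSum Groth.Agent.Helper9.GrLCLib

open scoped Classical

variable {R : Type u} [CommRing R] (ℬ : ℤ → AddSubgroup R) [GradedRing ℬ]
  {M : Type u} [AddCommGroup M] [Module R M] (ℳ : ℤ → AddSubgroup M)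
  [DirectSum.Decomposition ℳ] [SetLike.GradedSMul ℬ ℳ]

/-- components of a general product -/
theorem proj_smul_eq_sum (a : R) (x : M) (k : ℤ) :
    proj ℳ k (a • x) =
      ∑ i ∈ (decompose ℳ x).support, (decompose ℬ a (k - i) : R) • proj ℳ i x := by
  classical
  conv_lhs => rw [← sum_support_decompose ℳ x]
  rw [Finset.smul_sum, map_sum]
  refine Finset.sum_congr rfl (fun i _ => ?_)
  exact proj_smul_of_mem_right' ℬ ℳ (decompose ℳ x i).2 a k

theorem proj_eq_zero_of_notMem_support {x : M} {i : ℤ} (hi : i ∉ (decompose ℳ x).support) :
    proj ℳ i x = 0 := by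
  classical
  rw [DFinsupp.notMem_support_iff] at hi
  rw [proj_apply, hi]
  rfl

theorem mem_support_iff_proj {x : M} {i : ℤ} :
    i ∈ (decompose ℳ x).support ↔ proj ℳ i x ≠ 0 := by
  classical
  rw [DFinsupp.mem_support_iff, proj_apply]
  constructor
  · intro h h'
    exact h (Subtype.ext h')
  · intro h h'
    apply h
    rw [h']
    rfl

/-- the key lemma: a power of the top component of `a` kills `x` when `a` does -/
theorem exists_pow_top_smul_eq_zero :
    ∀ (N : ℕ) (x : M), (decompose ℳ x).support.card ≤ N → ∀ (a : R) (t : ℤ),
      (∀ i, t < i → (decompose ℬ a i : R) = 0) → a • x = 0 →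
      ∃ k : ℕ, (decompose ℬ a t : R) ^ k • x = 0 := by
  classical
  intro N
  induction N with
  | zero =>
    intro x hx a t _ _
    have h0 : (decompose ℳ x).support = ∅ := Finset.card_eq_zero.1 (Nat.le_zero.1 hx)
    have hx0 : x = 0 := by
      rw [← sum_support_decompose ℳ x, h0, Finset.sum_empty]
    exact ⟨0, by rw [hx0, smul_zero]⟩
  | succ N ih =>
    intro x hx a t hat hax
    by_cases hx0 : x = 0
    · exact ⟨0, by rw [hx0, smul_zero]⟩
    have hne : (decompose ℳ x).support.Nonempty := by
      rw [Finset.nonempty_iff_ne_empty]
      intro h0
      apply hx0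
      rw [← sum_support_decompose ℳ x, h0, Finset.sum_empty]
    set j := (decompose ℳ x).support.max' hne with hj
    have hjmem : j ∈ (decompose ℳ x).support := Finset.max'_mem _ hne
    set at' : R := (decompose ℬ a t : R) with hat'
    have hatmem : at' ∈ ℬ t := (decompose ℬ a t).2
    -- the top component of `a • x`
    have htop : at' • proj ℳ j x = 0 := by
      have h1 : proj ℳ (t + j) (a • x) = 0 := by rw [hax, map_zero]
      rw [proj_smul_eq_sum ℬ ℳ a x (t + j), Finset.sum_eq_single j] at h1
      · rwa [add_sub_cancel_right] at h1
      · intro i hi hij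
        have hlt : i < j := lt_of_le_of_ne (Finset.le_max' _ i hi) hij
        rw [hat (t + j - i) (by omega), zero_smul]
      · intro h
        exact absurd hjmem h
    set x' := at' • x with hx'
    have hproj : ∀ i, proj ℳ (t + i) x' = at' • proj ℳ i x := fun i =>
      proj_smul_of_mem ℬ ℳ hatmem x i
    have hsub : (decompose ℳ x').support ⊆
        ((decompose ℳ x).support.erase j).image (fun i => t + i) := by
      intro l hl
      rw [mem_support_iff_proj] at hl
      have hl' : l = t + (l - t) := by ring
      rw [hl', hproj] at hl
      rw [Finset.mem_image]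
      refine ⟨l - t, ?_, by ring⟩
      rw [Finset.mem_erase]
      constructor
      · rintro h
        rw [h, htop] at hl
        exact hl rfl
      · rw [mem_support_iff_proj]
        intro h
        rw [h, smul_zero] at hl
        exact hl rfl
    have hcard : (decompose ℳ x').support.card ≤ N := by
      calc (decompose ℳ x').support.card
          ≤ (((decompose ℳ x).support.erase j).image (fun i => t + i)).card :=
            Finset.card_le_card hsub
        _ ≤ ((decompose ℳ x).support.erase j).card := Finset.card_image_le
        _ = (decompose ℳ x).support.card - 1 := Finset.card_erase_of_mem hjmem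
        _ ≤ N := by omega
    have hax' : a • x' = 0 := by
      rw [hx', smul_smul, mul_comm, ← smul_smul, hax, smul_zero]
    obtain ⟨k, hk⟩ := ih x' hcard a t hat hax'
    refine ⟨k + 1, ?_⟩
    rw [pow_succ, ← smul_smul]
    exact hk

include ℳ in
/-- associated primes of a `ℤ`-graded module over a Noetherian `ℤ`-graded ring are homogeneous -/
theorem isHomogeneous_of_mem_associatedPrimes [IsNoetherianRing R] {P : Ideal R}
    (hP : P ∈ associatedPrimes R M) : P.IsHomogeneous ℬ := by
  classical
  obtain ⟨hprime, x, hx⟩ := (isAssociatedPrime_iff).1 hP
  have hmem : ∀ r : R, r ∈ P ↔ r • x = 0 := by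
    intro r
    rw [hx, Submodule.mem_colon_singleton, Submodule.mem_bot]
  have key : ∀ (N : ℕ) (a : R), (decompose ℬ a).support.card ≤ N → a ∈ P →
      ∀ i, (decompose ℬ a i : R) ∈ P := by
    intro N
    induction N with
    | zero =>
      intro a ha _ i
      have h0 : (decompose ℬ a).support = ∅ := Finset.card_eq_zero.1 (Nat.le_zero.1 ha)
      have hi : i ∉ (decompose ℬ a).support := by rw [h0]; exact Finset.notMem_empty i
      rw [DFinsupp.notMem_support_iff] at hi
      rw [hi]
      exact P.zero_mem
    | succ N ih =>
      intro a ha haP i
      by_cases ha0 : a = 0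
      · rw [ha0, decompose_zero]
        exact P.zero_mem
      have hne : (decompose ℬ a).support.Nonempty := by
        rw [Finset.nonempty_iff_ne_empty]
        intro h0
        apply ha0
        rw [← sum_support_decompose ℬ a, h0, Finset.sum_empty]
      set t := (decompose ℬ a).support.max' hne with ht
      have htmem : t ∈ (decompose ℬ a).support := Finset.max'_mem _ hne
      have hat : ∀ l, t < l → (decompose ℬ a l : R) = 0 := by
        intro l hl
        have : l ∉ (decompose ℬ a).support := fun h =>
          absurd (Finset.le_max' _ l h) (not_le.2 hl)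
        rw [DFinsupp.notMem_support_iff] at this
        rw [this]
        rfl
      obtain ⟨k, hk⟩ := exists_pow_top_smul_eq_zero ℬ ℳ _ x le_rfl a t hat ((hmem a).1 haP)
      have htP : (decompose ℬ a t : R) ∈ P :=
        hprime.mem_of_pow_mem k ((hmem _).2 hk)
      set a' := a - (decompose ℬ a t : R) with ha'
      have ha'P : a' ∈ P := P.sub_mem haP htP
      have hdec : ∀ l, (decompose ℬ a' l : R) =
          if l = t then 0 else (decompose ℬ a l : R) := by
        intro l
        rw [ha', decompose_sub, DirectSum.sub_apply, AddSubgroup.coe_sub,
          decompose_coe, DirectSum.of_apply]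
        split_ifs with h1 h2 h2
        · subst h1
          simp
        · exact absurd h1.symm h2
        · exact absurd h2.symm h1
        · simp
      have hsub : (decompose ℬ a').support ⊆ (decompose ℬ a).support.erase t := by
        intro l hl
        rw [DFinsupp.mem_support_iff] at hl
        have hl' : (decompose ℬ a' l : R) ≠ 0 := fun h => hl (Subtype.ext h)
        rw [hdec] at hl'
        rw [Finset.mem_erase]
        split_ifs at hl' with h
        · exact absurd rfl hl'
        · refine ⟨h, ?_⟩
          rw [DFinsupp.mem_support_iff]
          intro h'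
          apply hl'
          rw [h']
          rfl
      have hcard : (decompose ℬ a').support.card ≤ N := by
        calc (decompose ℬ a').support.card ≤ ((decompose ℬ a).support.erase t).card :=
              Finset.card_le_card hsub
          _ = (decompose ℬ a).support.card - 1 := Finset.card_erase_of_mem htmem
          _ ≤ N := by omega
      have h2 := ih a' hcard ha'P i
      rw [hdec] at h2
      by_cases hit : i = t
      · rw [hit]
        exact htP
      · rwa [if_neg hit] at h2
  intro i a ha
  exact key _ a le_rfl ha i

end Groth.Agent.Lib.Helper6.GrDepth
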