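import Mathlib
import Groth.Agent.Lib.Helper6.GrHt.ZCase

set_option autoImplicit false
set_option linter.unusedSectionVars false
set_option linter.unusedVariables false
set_option linter.unusedSimpArgs false
set_option linter.style.haveILetI false
set_option maxHeartbeats 400000

/-!
# Homogeneous prime avoidance relative to a non-homogeneous prime of a `ℤ`-graded ring
-/

universe u

namespace Groth.Agent.Lib.Helper6.GrDepth

open DirectSum Groth.Agent.Lib.Helper6.GrHt

variable {R : Type u} [CommRing R] (ℬ : ℤ → AddSubgroup R) [GradedRing ℬ]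

/-- a homogeneous ideal not contained in `J` has a homogeneous element outside `J` -/
theorem exists_homogeneous_mem_notMem {I J : Ideal R} (hI : I.IsHomogeneous ℬ) (h : ¬ I ≤ J) :
    ∃ (i : ℤ) (w : R), w ∈ ℬ i ∧ w ∈ I ∧ w ∉ J := by
  classical
  obtain ⟨r, hrI, hrJ⟩ := SetLike.not_le_iff_exists.1 h
  by_contra hcon
  push Not at hcon
  apply hrJ
  rw [← sum_support_decompose ℬ r]
  refine J.sum_mem (fun i _ => ?_)
  exact hcon i _ (decompose ℬ r i).2 (hI i hrI)

/-- two homogeneous elements of different degrees outside a non-homogeneous prime -/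
theorem exists_two_homogeneous_notMem (p : Ideal R) [hp' : p.IsPrime] (hp : core ℬ p ≠ p) :
    ∃ (h₁ h₂ : ℤ) (u v : R), h₁ ≠ h₂ ∧ u ∈ ℬ h₁ ∧ v ∈ ℬ h₂ ∧ u ∉ p ∧ v ∉ p := by
  classical
  have hlt : ¬ p ≤ core ℬ p := fun h => hp (le_antisymm (core_le ℬ p) h)
  obtain ⟨g, hgp, hgc⟩ := SetLike.not_le_iff_exists.1 hlt
  set T := (decompose ℬ g).support.filter (fun i => (decompose ℬ g i : R) ∉ p) with hT
  by_contra hcon
  push Not at hcon
  have hcard : T.card ≤ 1 := by
    rw [Finset.card_le_one]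
    intro a ha b hb
    by_contra hab
    rw [hT, Finset.mem_filter] at ha hb
    exact hb.2 (hcon a b _ _ hab (decompose ℬ g a).2 (decompose ℬ g b).2 ha.2)
  rw [Finset.card_le_one] at hcard
  -- some component is outside `p`
  have hex : ∃ i ∈ (decompose ℬ g).support, (decompose ℬ g i : R) ∉ p := by
    by_contra hno
    push Not at hno
    apply hgc
    rw [← sum_support_decompose ℬ g]
    refine (core ℬ p).sum_mem (fun i hi => ?_)
    exact mem_core_of_mem ℬ (decompose ℬ g i).2 (hno i hi)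
  obtain ⟨i₀, hi₀, hi₀p⟩ := hex
  apply hi₀p
  have hsum := Finset.add_sum_erase (decompose ℬ g).support
    (fun i => (decompose ℬ g i : R)) hi₀
  rw [sum_support_decompose ℬ g] at hsum
  have h1 : (decompose ℬ g i₀ : R) =
      g - ∑ x ∈ (decompose ℬ g).support.erase i₀, (decompose ℬ g x : R) := by
    rw [eq_sub_iff_add_eq]
    exact hsum
  rw [h1]
  refine p.sub_mem hgp (p.sum_mem (fun j hj => ?_))
  rw [Finset.mem_erase] at hj
  by_contra hjp
  have hjT : j ∈ T := by
    rw [hT, Finset.mem_filter]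
    exact ⟨hj.2, hjp⟩
  have hiT : i₀ ∈ T := by
    rw [hT, Finset.mem_filter]
    exact ⟨hi₀, hi₀p⟩
  exact hj.1 (hcard j hjT i₀ hiT)

/-- a homogeneous element of `q` outside `P₀` lying in all members of a finite family -/
theorem exists_homogeneous_in_all (q P₀ : Ideal R) [hP₀ : P₀.IsPrime] (hq : q.IsHomogeneous ℬ)
    (hqP : ¬ q ≤ P₀) (Ss : Finset (Ideal R))
    (hSs : ∀ P' ∈ Ss, P'.IsHomogeneous ℬ ∧ ¬ P' ≤ P₀) :
    ∃ (e : ℤ) (z : R), z ∈ ℬ e ∧ z ∈ q ∧ z ∉ P₀ ∧ ∀ P' ∈ Ss, z ∈ P' := by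
  classical
  induction Ss using Finset.induction_on with
  | empty =>
    obtain ⟨e, w, hw, hwq, hwP⟩ := exists_homogeneous_mem_notMem ℬ hq hqP
    exact ⟨e, w, hw, hwq, hwP, fun P' hP' => absurd hP' (Finset.notMem_empty _)⟩
  | insert P' Ss hP' ih =>
    obtain ⟨e, z, hz, hzq, hzP, hzall⟩ := ih (fun P'' hP'' => hSs P'' (Finset.mem_insert_of_mem hP''))
    obtain ⟨hP'hom, hP'le⟩ := hSs P' (Finset.mem_insert_self _ _)
    obtain ⟨e', w, hw, hwP', hwP₀⟩ := exists_homogeneous_mem_notMem ℬ hP'hom hP'le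
    refine ⟨e + e', z * w, SetLike.mul_mem_graded hz hw, q.mul_mem_right _ hzq, ?_, ?_⟩
    · intro h
      rcases hP₀.mem_or_mem h with h | h
      · exact hzP h
      · exact hwP₀ h
    · intro P'' hP''
      rw [Finset.mem_insert] at hP''
      rcases hP'' with rfl | hP''
      · exact P''.mul_mem_left _ hwP'
      · exact P''.mul_mem_right _ (hzall P'' hP'')

/-- **homogeneous prime avoidance** relative to a non-homogeneous prime -/
theorem exists_homogeneous_avoiding (p : Ideal R) [hp' : p.IsPrime] (hp : core ℬ p ≠ p) :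
    ∀ (Ps : Finset (Ideal R)),
      (∀ P ∈ Ps, P.IsPrime ∧ P.IsHomogeneous ℬ ∧ P ≤ p ∧ ¬ core ℬ p ≤ P) →
      ∃ (e : ℤ) (y : R), y ∈ ℬ e ∧ y ∈ core ℬ p ∧ ∀ P ∈ Ps, y ∉ P := by
  classical
  obtain ⟨h₁, h₂, u, v, hne, hu, hv, hup, hvp⟩ := exists_two_homogeneous_notMem ℬ p hp
  intro Ps
  induction Ps using Finset.strongInduction with
  | H Ps ih =>
    intro hPs
    by_cases hemp : Ps = ∅
    · exact ⟨0, 0, AddSubgroup.zero_mem _, Ideal.zero_mem _,
        fun P hP => by rw [hemp] at hP; exact absurd hP (Finset.notMem_empty _)⟩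
    obtain ⟨P₀, hP₀mem, hP₀min⟩ := Finset.exists_minimal (Finset.nonempty_iff_ne_empty.2 hemp)
    obtain ⟨hP₀prime, hP₀hom, hP₀p, hP₀q⟩ := hPs P₀ hP₀mem
    have hss : Ps.erase P₀ ⊂ Ps := Finset.erase_ssubset hP₀mem
    obtain ⟨e₁, y, hy, hyq, hyall⟩ := ih (Ps.erase P₀) hss
      (fun P hP => hPs P (Finset.mem_of_mem_erase hP))
    by_cases hyP₀ : y ∉ P₀
    · refine ⟨e₁, y, hy, hyq, fun P hP => ?_⟩
      by_cases hPP : P = P₀
      · rw [hPP]; exact hyP₀
      · exact hyall P (Finset.mem_erase.2 ⟨hPP, hP⟩)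
    rw [not_not] at hyP₀
    have hSs : ∀ P' ∈ Ps.erase P₀, P'.IsHomogeneous ℬ ∧ ¬ P' ≤ P₀ := by
      intro P' hP'
      rw [Finset.mem_erase] at hP'
      refine ⟨(hPs P' hP'.2).2.1, fun hle => hP'.1 ?_⟩
      exact le_antisymm hle (hP₀min hP'.2 hle)
    obtain ⟨e₂, z, hz, hzq, hzP₀, hzall⟩ :=
      exists_homogeneous_in_all ℬ (core ℬ p) P₀ (core_isHomogeneous ℬ p) hP₀q _ hSs
    -- balance the degrees
    have hδ : h₂ - h₁ ≠ 0 := fun h => hne (by omega)
    set n : ℕ := ((h₂ - h₁) * (h₂ - h₁)).toNat with hn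
    have hnz : (n : ℤ) = (h₂ - h₁) * (h₂ - h₁) :=
      Int.toNat_of_nonneg (mul_self_nonneg _)
    have hnpos : 0 < n := by
      have : 0 < (h₂ - h₁) * (h₂ - h₁) := mul_self_pos.2 hδ
      omega
    set K : ℤ := (h₂ - h₁) * (e₂ - e₁) with hK
    set α : ℕ := (-K).toNat with hα
    set β : ℕ := K.toNat with hβ
    have hαβ : (β : ℤ) - α = K := Int.toNat_sub_toNat_neg K
    set σ : R := u ^ α * v ^ β with hσ
    set τ : R := u ^ β * v ^ α with hτ
    have hσdeg : σ ∈ ℬ ((α : ℤ) * h₁ + (β : ℤ) * h₂) := by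
      have h1 := SetLike.pow_mem_graded α hu
      have h2 := SetLike.pow_mem_graded β hv
      rw [nsmul_eq_mul] at h1 h2
      exact SetLike.mul_mem_graded h1 h2
    have hτdeg : τ ∈ ℬ ((β : ℤ) * h₁ + (α : ℤ) * h₂) := by
      have h1 := SetLike.pow_mem_graded β hu
      have h2 := SetLike.pow_mem_graded α hv
      rw [nsmul_eq_mul] at h1 h2
      exact SetLike.mul_mem_graded h1 h2
    have hσp : σ ∉ p := by
      intro h
      rcases hp'.mem_or_mem h with h | h
      · exact hup (hp'.mem_of_pow_mem _ h)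
      · exact hvp (hp'.mem_of_pow_mem _ h)
    have hτp : τ ∉ p := by
      intro h
      rcases hp'.mem_or_mem h with h | h
      · exact hup (hp'.mem_of_pow_mem _ h)
      · exact hvp (hp'.mem_of_pow_mem _ h)
    set E : ℤ := (α : ℤ) * h₁ + (β : ℤ) * h₂ + (n : ℤ) * e₁ with hE
    have hE' : E = (β : ℤ) * h₁ + (α : ℤ) * h₂ + (n : ℤ) * e₂ := by
      rw [hE]
      linear_combination (h₂ - h₁) * hαβ + (h₂ - h₁) * hK + (e₁ - e₂) * hnz
    have hy1 : σ * y ^ n ∈ ℬ E := by
      have h1 := SetLike.pow_mem_graded n hy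
      rw [nsmul_eq_mul] at h1
      exact SetLike.mul_mem_graded hσdeg h1
    have hz1 : τ * z ^ n ∈ ℬ E := by
      rw [hE']
      have h1 := SetLike.pow_mem_graded n hz
      rw [nsmul_eq_mul] at h1
      exact SetLike.mul_mem_graded hτdeg h1
    refine ⟨E, σ * y ^ n + τ * z ^ n, AddSubgroup.add_mem _ hy1 hz1, ?_, ?_⟩
    · exact (core ℬ p).add_mem ((core ℬ p).mul_mem_left _ (Ideal.pow_mem_of_mem _ hyq n hnpos))
        ((core ℬ p).mul_mem_left _ (Ideal.pow_mem_of_mem _ hzq n hnpos))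
    · intro P hP hmem
      by_cases hPP : P = P₀
      · subst hPP
        have h1 : σ * y ^ n ∈ P := P.mul_mem_left _ (Ideal.pow_mem_of_mem _ hyP₀ n hnpos)
        have h2 : τ * z ^ n ∈ P := by
          have := P.sub_mem hmem h1
          rwa [add_sub_cancel_left] at this
        rcases hP₀prime.mem_or_mem h2 with h | h
        · exact hτp (hP₀p h)
        · exact hzP₀ (hP₀prime.mem_of_pow_mem _ h)
      · have hPe : P ∈ Ps.erase P₀ := Finset.mem_erase.2 ⟨hPP, hP⟩
        obtain ⟨hPprime, -, hPp, -⟩ := hPs P hP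
        have h1 : τ * z ^ n ∈ P := P.mul_mem_left _ (Ideal.pow_mem_of_mem _ (hzall P hPe) n hnpos)
        have h2 : σ * y ^ n ∈ P := by
          have := P.sub_mem hmem h1
          rwa [add_sub_cancel_right] at this
        rcases hPprime.mem_or_mem h2 with h | h
        · exact hσp (hPp h)
        · exact hyall P hPe (hPprime.mem_of_pow_mem _ h)

end Groth.Agent.Lib.Helper6.GrDepth
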