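import Mathlib
import Groth.Agent.Lib.Helper6.GrDepth.GPa
import Groth.Agent.Lib.Helper6.GrDepth.GPb
import Groth.Agent.Lib.Helper9.GrLC.Push
import Groth.Agent.Lib.Helper8.Depth29

set_option autoImplicit false
set_option linter.unusedSectionVars false
set_option linter.unusedVariables false
set_option linter.unusedSimpArgs false
set_option linter.style.haveILetI false
set_option maxHeartbeats 400000

/-!
# `depth M_{p*} + 1 ≤ depth M_p` for a non-homogeneous prime of a `ℤ`-graded ring
-/

universe u

namespace Groth.Agent.Lib.Helper6.GrDepth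

open DirectSum Groth.Agent.Lib.Helper6.GrHt Groth.Agent.Helper9.GrLCLib
  Groth.Agent.Helper8.Depth LocCoh IsLocalRing Pointwise

section General

variable {A : Type u} [CommRing A] [IsNoetherianRing A] (p : Ideal A) [hpp : p.IsPrime]
  (M : Type u) [AddCommGroup M] [Module A M] [Module.Finite A M]

/-- a variant of `depth_localizedModule_quotSMulTop` asking only for local regularity -/
theorem depth_localizedModule_quotSMulTop' [Nontrivial (LocalizedModule p.primeCompl M)]
    {x : A} (hxp : x ∈ p)
    (hreg' : IsSMulRegular (LocalizedModule p.primeCompl M)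
      (algebraMap A (Localization.AtPrime p) x)) :
    depth (Localization.AtPrime p) (LocalizedModule p.primeCompl (QuotSMulTop x M)) + 1 =
      depth (Localization.AtPrime p) (LocalizedModule p.primeCompl M) := by
  have e := localizedQuotSMulTopEquiv' p M x
  have h1 : depth (Localization.AtPrime p) (LocalizedModule p.primeCompl (QuotSMulTop x M)) =
      depth (Localization.AtPrime p)
        (QuotSMulTop (algebraMap A (Localization.AtPrime p) x)
          (LocalizedModule p.primeCompl M)) := idealDepth_congr e
  rw [h1]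
  have hne : maximalIdeal (Localization.AtPrime p) •
      (⊤ : Submodule (Localization.AtPrime p) (LocalizedModule p.primeCompl M)) ≠ ⊤ :=
    smul_top_ne_top_of_local _ _
  have hx' : algebraMap A (Localization.AtPrime p) x ∈ maximalIdeal (Localization.AtPrime p) :=
    (IsLocalization.AtPrime.to_map_mem_maximal_iff (Localization.AtPrime p) p x).mpr hxp
  exact idealDepth_quotSMulTop_add_one hne hx' hreg'

/-- regularity on the localization from avoidance of the associated primes below `p` -/
theorem isSMulRegular_localizedModule_of_notMem (y : A)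
    (h : ∀ P ∈ associatedPrimes A M, P ≤ p → y ∉ P) :
    IsSMulRegular (LocalizedModule p.primeCompl M)
      (algebraMap A (Localization.AtPrime p) y) := by
  by_contra hreg
  have h1 : algebraMap A (Localization.AtPrime p) y ∈
      {r : Localization.AtPrime p | IsSMulRegular (LocalizedModule p.primeCompl M) r}ᶜ := hreg
  rw [← biUnion_associatedPrimes_eq_compl_regular] at h1
  simp only [Set.mem_iUnion] at h1
  obtain ⟨𝔞, h𝔞, hy𝔞⟩ := h1
  have h2 := Module.associatedPrimes.preimage_comap_associatedPrimes_eq_associatedPrimes_of_isLocalizedModule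
    p.primeCompl (Localization.AtPrime p) (LocalizedModule.mkLinearMap p.primeCompl M)
  have h3 : 𝔞 ∈ (Ideal.comap (algebraMap A (Localization.AtPrime p))) ⁻¹'
      (associatedPrimes A M) := by
    rw [h2]
    exact h𝔞
  haveI : 𝔞.IsPrime := h𝔞.isPrime
  have h4 : Ideal.comap (algebraMap A (Localization.AtPrime p)) 𝔞 ≤ p :=
    comap_localization_le p ⟨𝔞, inferInstance⟩
  exact h _ h3 h4 hy𝔞

end General

section Graded

variable {R : Type u} [CommRing R] [IsNoetherianRing R] (ℬ : ℤ → AddSubgroup R) [GradedRing ℬ]

/-- `y M` is a homogeneous submodule for homogeneous `y` -/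
theorem smul_top_isHomogeneous {M : Type u} [AddCommGroup M] [Module R M]
    (ℳ : ℤ → AddSubgroup M) [DirectSum.Decomposition ℳ] [SetLike.GradedSMul ℬ ℳ]
    {e : ℤ} {y : R} (hy : y ∈ ℬ e) : (y • (⊤ : Submodule R M)).IsHomogeneous ℳ := by
  intro k m hm
  obtain ⟨m', -, rfl⟩ := (Submodule.mem_smul_pointwise_iff_exists _ _ _).1 hm
  have := proj_smul_of_mem' ℬ ℳ hy m' k
  rw [proj_apply] at this
  rw [this]
  exact Submodule.smul_mem_pointwise_smul _ _ _ Submodule.mem_top

theorem le_depth_zcase (p : Ideal R) [hpp : p.IsPrime] (hp : core ℬ p ≠ p)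
    [hq : (core ℬ p).IsPrime] :
    ∀ (n : ℕ) (M : Type u) [AddCommGroup M] [Module R M] [Module.Finite R M]
      (ℳ : ℤ → AddSubgroup M) [DirectSum.Decomposition ℳ] [SetLike.GradedSMul ℬ ℳ],
      depth (Localization.AtPrime (core ℬ p)) (LocalizedModule (core ℬ p).primeCompl M) = n →
      ((n : ℕ∞) + 1) ≤ depth (Localization.AtPrime p) (LocalizedModule p.primeCompl M) := by
  classical
  intro n
  induction n with
  | zero =>
    intro M _ _ _ ℳ _ _ _
    rw [Nat.cast_zero, zero_add, Order.one_le_iff_ne_zero]
    intro h0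
    rw [depth_localizedModule_eq_zero_iff] at h0
    have := isHomogeneous_of_mem_associatedPrimes ℬ ℳ h0
    exact hp ((core_eq_self_iff ℬ p).2 this)
  | succ n ih =>
    intro M _ _ _ ℳ _ _ hdep
    set q := core ℬ p with hqdef
    -- nontriviality
    haveI hntq : Nontrivial (LocalizedModule q.primeCompl M) := by
      by_contra hnt
      rw [not_nontrivial_iff_subsingleton] at hnt
      rw [depth_eq_top_of_subsingleton] at hdep
      exact absurd hdep.symm (ENat.natCast_ne_top _)
    haveI hntp : Nontrivial (LocalizedModule p.primeCompl M) := by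
      have h1 : (⟨q, hq⟩ : PrimeSpectrum R) ∈ Module.support R M := Module.mem_support_iff.2 hntq
      have h2 : (⟨p, hpp⟩ : PrimeSpectrum R) ∈ Module.support R M :=
        Module.mem_support_mono (show (⟨q, hq⟩ : PrimeSpectrum R) ≤ ⟨p, hpp⟩ from core_le ℬ p) h1
      exact Module.mem_support_iff.1 h2
    have hqAss : q ∉ associatedPrimes R M := by
      intro h
      rw [← depth_localizedModule_eq_zero_iff, hdep] at h
      exact absurd h (by
        have : ((n + 1 : ℕ) : ℕ∞) ≠ 0 := by exact_mod_cast Nat.succ_ne_zero n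
        exact this)
    have hfin := associatedPrimes.finite R M
    set Ps := hfin.toFinset.filter (fun P => P ≤ p) with hPs
    have hPsmem : ∀ P, P ∈ Ps ↔ P ∈ associatedPrimes R M ∧ P ≤ p := by
      intro P
      rw [hPs, Finset.mem_filter, Set.Finite.mem_toFinset]
    have hcond : ∀ P ∈ Ps, P.IsPrime ∧ P.IsHomogeneous ℬ ∧ P ≤ p ∧ ¬ core ℬ p ≤ P := by
      intro P hP
      obtain ⟨hPass, hPp⟩ := (hPsmem P).1 hP
      have hhom := isHomogeneous_of_mem_associatedPrimes ℬ ℳ hPass
      refine ⟨hPass.isPrime, hhom, hPp, fun hle => hqAss ?_⟩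
      have : P = q := le_antisymm (le_core_of_isHomogeneous ℬ hhom hPp) hle
      rw [← this]
      exact hPass
    obtain ⟨e, y, hy, hyq, hyall⟩ := exists_homogeneous_avoiding ℬ p hp Ps hcond
    have hyp : y ∈ p := core_le ℬ p hyq
    have hregp : IsSMulRegular (LocalizedModule p.primeCompl M)
        (algebraMap R (Localization.AtPrime p) y) :=
      isSMulRegular_localizedModule_of_notMem p M y
        (fun P hP hPp => hyall P ((hPsmem P).2 ⟨hP, hPp⟩))
    have hregq : IsSMulRegular (LocalizedModule q.primeCompl M)
        (algebraMap R (Localization.AtPrime q) y) :=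
      isSMulRegular_localizedModule_of_notMem q M y
        (fun P hP hPq => hyall P ((hPsmem P).2 ⟨hP, hPq.trans (core_le ℬ p)⟩))
    -- the graded quotient
    have hK : (LinearMap.ker (y • (⊤ : Submodule R M)).mkQ).IsHomogeneous ℳ := by
      rw [Submodule.ker_mkQ]
      exact smul_top_isHomogeneous ℬ ℳ hy
    letI := pushDecomposition ℳ (y • (⊤ : Submodule R M)).mkQ
      (Submodule.mkQ_surjective _) hK
    letI := pushGradedSMul ℬ ℳ (y • (⊤ : Submodule R M)).mkQ
    have h1 := depth_localizedModule_quotSMulTop' q M hyq hregq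
    have h2 := depth_localizedModule_quotSMulTop' p M hyp hregp
    rw [hdep] at h1
    have h3 : depth (Localization.AtPrime q)
        (LocalizedModule q.primeCompl (QuotSMulTop y M)) = n := by
      have h4 : ((n + 1 : ℕ) : ℕ∞) = (n : ℕ∞) + 1 := by push_cast; rfl
      rw [h4] at h1
      exact (ENat.add_left_injective_of_ne_top ENat.one_ne_top) h1
    have h5 := ih (QuotSMulTop y M) (pushFam ℳ (y • (⊤ : Submodule R M)).mkQ) h3
    rw [← h2]
    have h6 : ((n + 1 : ℕ) : ℕ∞) + 1 = ((n : ℕ∞) + 1) + 1 := by push_cast; rfl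
    rw [h6]
    exact add_le_add_left h5 1

end Graded

end Groth.Agent.Lib.Helper6.GrDepth
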