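import Mathlib
import Groth.Agent.Lib.Helper6.GrDepth.GPc
import Groth.Agent.Lib.Helper6.GrDim.GDb
import Groth.Agent.Lib.Helper8.Depth25

set_option autoImplicit false
set_option linter.unusedSectionVars false
set_option linter.unusedVariables false
set_option linter.unusedSimpArgs false
set_option linter.style.haveILetI false
set_option maxHeartbeats 400000

/-!
# `depth M_p = depth M_{p*} + ht (p / p*)` over a `ℤ`-graded ring
-/

universe u

namespace Groth.Agent.Lib.Helper6.GrDepth

open DirectSum Groth.Agent.Lib.Helper6.GrHt Groth.Agent.Helper9.GrLCLib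
  Groth.Agent.Helper8.Depth LocCoh IsLocalRing Pointwise Groth.Agent.Lib.Helper6.GrDim

section DF

variable {R : Type u} [CommRing R] [IsNoetherianRing R]

/-- the depth formula relative to a candidate core -/
def DF (p c : Ideal R) [p.IsPrime] (M : Type u) [AddCommGroup M] [Module R M] : Prop :=
  ∀ (_ : c.IsPrime), depth (Localization.AtPrime p) (LocalizedModule p.primeCompl M) =
    depth (Localization.AtPrime c) (LocalizedModule c.primeCompl M) +
      (p.map (Ideal.Quotient.mk c)).height

theorem DF_congr {p c c' : Ideal R} [p.IsPrime] {M : Type u} [AddCommGroup M] [Module R M]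
    (h : c = c') (hc : DF p c M) : DF p c' M := by
  subst h
  exact hc

theorem DF_self (p : Ideal R) [hp : p.IsPrime] (M : Type u) [AddCommGroup M] [Module R M] :
    DF p p M := by
  intro _
  haveI : Nontrivial (R ⧸ p) := Ideal.Quotient.nontrivial_iff.2 hp.ne_top
  rw [Ideal.map_quotient_self, Ideal.height_bot, add_zero]

end DF

section ZCase

variable {R : Type u} [CommRing R] [IsNoetherianRing R] (ℬ : ℤ → AddSubgroup R) [GradedRing ℬ]

/-- `ht (p / p*) = 1` for a non-homogeneous prime of a `ℤ`-graded Noetherian ring -/
theorem height_map_mk_core_eq_one (p : Ideal R) [hpp : p.IsPrime] (hp : core ℬ p ≠ p) :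
    (p.map (Ideal.Quotient.mk (core ℬ p))).height = 1 := by
  set q := core ℬ p with hq
  have hqhom : q.IsHomogeneous ℬ := core_isHomogeneous ℬ p
  have hqp : q ≤ p := core_le ℬ p
  haveI hqprime : q.IsPrime := core_isPrime ℬ p
  letI := quotGradedRing ℬ q hqhom
  haveI hPprime : (p.map (Ideal.Quotient.mk q)).IsPrime := isPrime_map_mk q p hqp
  have hcore : core (quotGrading ℬ q) (p.map (Ideal.Quotient.mk q)) = ⊥ := by
    rw [core_map_mk ℬ q p hqhom hqp]
    show (core ℬ p).map (Ideal.Quotient.mk q) = ⊥
    rw [← hq, Ideal.map_quotient_self]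
  apply le_antisymm
  · obtain ⟨n, hn⟩ := ENat.ne_top_iff_exists.mp
      ((p.map (Ideal.Quotient.mk q)).height_ne_top (Ideal.IsPrime.ne_top inferInstance))
    have h1 := height_le_core_add_one (quotGrading ℬ q) n (p.map (Ideal.Quotient.mk q)) hn.symm
    rw [hcore, Ideal.height_bot, zero_add] at h1
    exact h1
  · rw [Order.one_le_iff_ne_zero]
    intro h0
    rw [Ideal.height_eq_zero_iff_eq_bot] at h0
    rw [Ideal.map_eq_bot_iff_le_ker, Ideal.mk_ker] at h0
    exact hp (le_antisymm hqp h0)

theorem depth_eq_zcase (p : Ideal R) [hpp : p.IsPrime]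
    (M : Type u) [AddCommGroup M] [Module R M] [Module.Finite R M]
    (ℳ : ℤ → AddSubgroup M) [DirectSum.Decomposition ℳ] [SetLike.GradedSMul ℬ ℳ] :
    DF p (core ℬ p) M := by
  by_cases hc : core ℬ p = p
  · exact DF_congr hc.symm (DF_self p M)
  intro hq
  rw [height_map_mk_core_eq_one ℬ p hc]
  apply le_antisymm
  · have := depth_localization_le_depth_add_height M (core ℬ p) p (core_le ℬ p)
    rwa [height_map_mk_core_eq_one ℬ p hc] at this
  · by_cases hnt : Nontrivial (LocalizedModule (core ℬ p).primeCompl M)
    · have hne : maximalIdeal (Localization.AtPrime (core ℬ p)) •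
          (⊤ : Submodule (Localization.AtPrime (core ℬ p))
            (LocalizedModule (core ℬ p).primeCompl M)) ≠ ⊤ :=
        smul_top_ne_top_of_local _ _
      obtain ⟨n, hn⟩ := ENat.ne_top_iff_exists.mp (idealDepth_ne_top hne)
      have h1 := le_depth_zcase ℬ p hc n M ℳ hn.symm
      have h2 : depth (Localization.AtPrime (core ℬ p))
          (LocalizedModule (core ℬ p).primeCompl M) = n := hn.symm
      rw [h2]
      exact h1
    · rw [not_nontrivial_iff_subsingleton] at hnt
      have hsub : Subsingleton (LocalizedModule p.primeCompl M) := by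
        by_contra hnt'
        rw [not_subsingleton_iff_nontrivial] at hnt'
        have h1 : (⟨p, hpp⟩ : PrimeSpectrum R) ∈ Module.support R M :=
          Module.mem_support_iff.2 hnt'
        rw [Module.mem_support_iff_of_finite] at h1
        have h2 : Module.annihilator R M ≤ core ℬ p :=
          le_core_of_isHomogeneous ℬ (annihilator_isHomogeneous ℬ ℳ) h1
        have h3 : (⟨core ℬ p, hq⟩ : PrimeSpectrum R) ∈ Module.support R M :=
          Module.mem_support_iff_of_finite.2 h2
        have h4 := Module.mem_support_iff.1 h3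
        exact not_subsingleton _ hnt
      rw [depth_eq_top_of_subsingleton (Localization.AtPrime p)]
      exact le_top

end ZCase

end Groth.Agent.Lib.Helper6.GrDepth
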