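import Mathlib
import Groth.Agent.Lib.Helper6.GrDepth.GPd
import Groth.Agent.Lib.Helper9.GrLC.Coarse

set_option autoImplicit false
set_option linter.unusedSectionVars false
set_option linter.unusedVariables false
set_option linter.unusedSimpArgs false
set_option linter.style.haveILetI false
set_option maxHeartbeats 400000

/-!
# `depth M_p = depth M_{p*} + ht (p / p*)` for gradings by finitely generated free abelian groups
-/

universe u

namespace Groth.Agent.Lib.Helper6.GrDepth

open DirectSum Groth.Agent.Lib.Helper6.GrHt Groth.Agent.Helper9.GrLCLib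
  Groth.Agent.Helper8.Depth LocCoh IsLocalRing Pointwise Groth.Agent.Lib.Helper6.GrDim

section Coarse

variable {ι κ : Type} [AddCommGroup ι] [DecidableEq ι] [AddCommGroup κ] [DecidableEq κ]
  {R : Type u} [CommRing R] (𝒜 : ι → AddSubgroup R) [GradedRing 𝒜] (f : ι →+ κ)

theorem coarse_eq_iSup (h : κ) : coarse 𝒜 f h = ⨆ g ∈ f ⁻¹' {h}, 𝒜 g := by
  apply le_antisymm
  · intro x hx
    rw [← sum_supp 𝒜 x]
    refine AddSubgroup.sum_mem _ (fun i hi => ?_)
    have hfi : f i = h := by
      by_contra hne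
      exact (mem_supp 𝒜 x i).1 hi (hx i hne)
    exact (le_iSup₂ (f := fun g (_ : g ∈ f ⁻¹' {h}) => 𝒜 g) i hfi) (comp_mem 𝒜 x i)
  · refine iSup₂_le (fun g hg x hx => ?_)
    exact mem_coarse_of_mem' 𝒜 f hx hg

end Coarse

section Heights

variable {R : Type u} [CommRing R] [IsNoetherianRing R] (ℬ : ℤ → AddSubgroup R) [GradedRing ℬ]

/-- additivity of heights along `c ≤ p* ≤ p` for a `ℤ`-grading for which `c` is homogeneous -/
theorem height_map_mk_add (c p : Ideal R) [hpp : p.IsPrime] [hcp : c.IsPrime]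
    (hc : c.IsHomogeneous ℬ) (hcle : c ≤ p) :
    (p.map (Ideal.Quotient.mk c)).height =
      ((core ℬ p).map (Ideal.Quotient.mk c)).height +
        (p.map (Ideal.Quotient.mk (core ℬ p))).height := by
  have hc1 : c ≤ core ℬ p := le_core_of_isHomogeneous ℬ hc hcle
  letI := quotGradedRing ℬ c hc
  haveI : (p.map (Ideal.Quotient.mk c)).IsPrime := isPrime_map_mk c p hcle
  haveI := core_isPrime (quotGrading ℬ c) (p.map (Ideal.Quotient.mk c))
  have h1 := height_eq_core_add (quotGrading ℬ c) (p.map (Ideal.Quotient.mk c))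
  have hcm := core_map_mk ℬ c p hc hcle
  have h2 : ((p.map (Ideal.Quotient.mk c)).map (Ideal.Quotient.mk
      (core (quotGrading ℬ c) (p.map (Ideal.Quotient.mk c))))).height =
      (p.map (Ideal.Quotient.mk (core ℬ p))).height := by
    rw [← height_map_map_mk c (core ℬ p) p hc1]
    congr 2 <;> rw [hcm]
  rw [h1, h2, hcm]

end Heights

section Rank

/-- the statement proved by induction on the rank -/
def QD (r : ℕ) : Prop :=
  ∀ (ι : Type) [AddCommGroup ι] [DecidableEq ι] (b : Module.Basis (Fin r) ℤ ι)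
    (R : Type u) [CommRing R] [IsNoetherianRing R] (𝒜 : ι → AddSubgroup R) [GradedRing 𝒜]
    (M : Type u) [AddCommGroup M] [Module R M] [Module.Finite R M]
    (ℳ : ι → AddSubgroup M) [DirectSum.Decomposition ℳ] [SetLike.GradedSMul 𝒜 ℳ]
    (p : Ideal R) [p.IsPrime], DF p (core 𝒜 p) M

theorem QD_zero : QD.{u} 0 := by
  intro ι _ _ b R _ _ 𝒜 _ M _ _ _ ℳ _ _ p hp
  have hsub : ∀ i j : ι, i = j := by
    intro i j
    apply b.repr.injective
    apply Finsupp.ext
    intro k
    exact k.elim0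
  have hhom : p.IsHomogeneous 𝒜 := by
    rw [isHomogeneous_iff]
    intro x hx i
    have hxi : x ∈ 𝒜 i := by
      rw [← sum_supp 𝒜 x]
      apply AddSubgroup.sum_mem
      intro j _
      rw [hsub i j]
      exact comp_mem 𝒜 x j
    rw [comp_of_mem_same 𝒜 hxi]
    exact hx
  have hc : p = core 𝒜 p := ((core_eq_self_iff 𝒜 p).mpr hhom).symm
  exact DF_congr hc (DF_self p M)

theorem QD_succ (r : ℕ) (ih : QD.{u} r) : QD.{u} (r + 1) := by
  intro ι _ _ b R _ _ 𝒜 _ M _ _ _ ℳ _ _ p hp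
  intro hcprime
  haveI hp1 : (core (coarse 𝒜 (phi b)) p).IsPrime := core_isPrime (coarse 𝒜 (phi b)) p
  have hcc := core_eq_core_core 𝒜 (phi b) (psi b) (phi_psi_inj b) p
  -- the `ℤ`-graded step
  have hZ : DF p (core (coarse 𝒜 (phi b)) p) M := by
    letI := Coarse.coarseDecomposition (phi b) ℳ
    letI := Coarse.coarseGradedSMul (phi b) 𝒜 (coarse 𝒜 (phi b))
      (coarse_eq_iSup 𝒜 (phi b)) ℳ
    exact depth_eq_zcase (coarse 𝒜 (phi b)) p M (Coarse.coarseFam (phi b) ℳ)
  -- the inductive step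
  have hI : DF (core (coarse 𝒜 (phi b)) p) (core 𝒜 p) M := by
    letI := Coarse.coarseDecomposition (psi b) ℳ
    letI := Coarse.coarseGradedSMul (psi b) 𝒜 (coarse 𝒜 (psi b))
      (coarse_eq_iSup 𝒜 (psi b)) ℳ
    exact DF_congr hcc (ih (Fin r → ℤ) (Pi.basisFun ℤ (Fin r)) R (coarse 𝒜 (psi b)) M
      (Coarse.coarseFam (psi b) ℳ) (core (coarse 𝒜 (phi b)) p))
  have hle : core 𝒜 p ≤ p := core_le 𝒜 p
  have hhom : (core 𝒜 p).IsHomogeneous (coarse 𝒜 (phi b)) :=
    isHomogeneous_coarse 𝒜 (phi b) (core_isHomogeneous 𝒜 p)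
  have hht := height_map_mk_add (coarse 𝒜 (phi b)) (core 𝒜 p) p hhom hle
  rw [hZ hp1, hI hcprime, hht, add_assoc]

theorem QD_all (r : ℕ) : QD.{u} r := by
  induction r with
  | zero => exact QD_zero
  | succ r ih => exact QD_succ r ih

end Rank

section Main

/-- **`depth M_p = depth M_{p*} + ht (p / p*)`** -/
theorem depth_localization_eq_add_height_core {ι : Type} [AddCommGroup ι] [DecidableEq ι]
    [Module.Free ℤ ι] [Module.Finite ℤ ι] (R : Type u) [CommRing R] [IsNoetherianRing R]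
    (𝒜 : ι → AddSubgroup R) [GradedRing 𝒜] (M : Type u) [AddCommGroup M] [Module R M]
    (ℳ : ι → AddSubgroup M) [DirectSum.Decomposition ℳ] [SetLike.GradedSMul 𝒜 ℳ]
    [Module.Finite R M] (p : Ideal R) [p.IsPrime] [hc : (core 𝒜 p).IsPrime] (d : ℕ)
    (hd : (p.map (Ideal.Quotient.mk (core 𝒜 p))).height = d) :
    depth (Localization.AtPrime p) (LocalizedModule p.primeCompl M) =
      depth (Localization.AtPrime (core 𝒜 p)) (LocalizedModule (core 𝒜 p).primeCompl M) + d := by
  have h := QD_all.{u} (Module.finrank ℤ ι) ι (Module.finBasis ℤ ι) R 𝒜 M ℳ p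
  rw [h hc, hd]

end Main

end Groth.Agent.Lib.Helper6.GrDepth
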